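import Mathlib

/-!
# Nagata-style descent of principality from `A[1/x]` for a prime element `x`
-/

set_option autoImplicit false
universe u

namespace Groth.Agent.Helper9.RegUFD

theorem principal_of_away {A : Type u} [CommRing A] [IsDomain A] [IsNoetherianRing A]
    (x : A) (hx : Prime x) (p : Ideal A) [hp : p.IsPrime] (hxp : x ∉ p)
    (hprin : (p.map (algebraMap A (Localization.Away x))).IsPrincipal) : p.IsPrincipal := by
  by_cases hp0 : p = ⊥
  · rw [hp0]; exact ⟨⟨0, by simp⟩⟩
  have hle : Submonoid.powers x ≤ nonZeroDivisors A :=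
    Submonoid.powers_le.mpr (mem_nonZeroDivisors_of_ne_zero hx.ne_zero)
  have hinj : Function.Injective (algebraMap A (Localization.Away x)) :=
    IsLocalization.injective _ hle
  obtain ⟨β, hβ⟩ := hprin.principal
  have hβ' : p.map (algebraMap A (Localization.Away x)) = Ideal.span {β} := hβ
  have hβmem : β ∈ p.map (algebraMap A (Localization.Away x)) := by
    rw [hβ']; exact Ideal.subset_span rfl
  rw [IsLocalization.mem_map_algebraMap_iff (Submonoid.powers x)] at hβmem
  obtain ⟨⟨⟨c, hc⟩, ⟨t, ht⟩⟩, hct⟩ := hβmem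
  simp only at hct
  have htu : IsUnit (algebraMap A (Localization.Away x) t) :=
    IsLocalization.map_units _ (⟨t, ht⟩ : Submonoid.powers x)
  have hspan1 : p.map (algebraMap A (Localization.Away x)) =
      Ideal.span {algebraMap A (Localization.Away x) c} := by
    rw [hβ', ← hct, Ideal.span_singleton_mul_right_unit htu]
  have hc0 : c ≠ 0 := by
    rintro rfl
    apply hp0
    rw [map_zero, Ideal.span_singleton_eq_bot.mpr rfl, Ideal.map_eq_bot_iff_of_injective hinj] at hspan1
    exact hspan1
  obtain ⟨n, c', hxc', hcc'⟩ := WfDvdMonoid.max_power_factor hc0 hx.irreducible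
  have hc'p : c' ∈ p := by
    rw [hcc'] at hc
    rcases hp.mem_or_mem hc with h | h
    · exact absurd (hp.mem_of_pow_mem n h) hxp
    · exact h
  have hxu : IsUnit (algebraMap A (Localization.Away x) (x ^ n)) :=
    IsLocalization.map_units _ (⟨x ^ n, n, rfl⟩ : Submonoid.powers x)
  have hspan2 : p.map (algebraMap A (Localization.Away x)) =
      Ideal.span {algebraMap A (Localization.Away x) c'} := by
    rw [hspan1, hcc', map_mul, mul_comm, Ideal.span_singleton_mul_right_unit hxu]
  refine ⟨⟨c', ?_⟩⟩
  change p = Ideal.span {c'}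
  apply le_antisymm
  · intro y hy
    have hy' : algebraMap A (Localization.Away x) y ∈
        Ideal.span {algebraMap A (Localization.Away x) c'} := by
      rw [← hspan2]; exact Ideal.mem_map_of_mem _ hy
    rw [Ideal.mem_span_singleton'] at hy'
    obtain ⟨w, hw⟩ := hy'
    obtain ⟨b, ⟨s, hs⟩, rfl⟩ := IsLocalization.exists_mk'_eq (Submonoid.powers x) w
    obtain ⟨k, hk⟩ := (Submonoid.mem_powers_iff _ _).mp hs
    have h1 : algebraMap A (Localization.Away x) (b * c') =
        algebraMap A (Localization.Away x) (y * x ^ k) := by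
      rw [map_mul, map_mul, ← hw, hk]
      rw [mul_right_comm]
      congr 1
      have := IsLocalization.mk'_spec (Localization.Away x) b (⟨s, hs⟩ : Submonoid.powers x)
      simp
    have h2 : b * c' = y * x ^ k := hinj h1
    have h3 : x ^ k ∣ b := hx.pow_dvd_of_dvd_mul_right k hxc' ⟨y, by rw [h2]; ring⟩
    obtain ⟨b', rfl⟩ := h3
    have h4 : y = b' * c' := by
      have hxk : x ^ k ≠ 0 := pow_ne_zero _ hx.ne_zero
      apply mul_right_cancel₀ hxk
      rw [← h2]; ring
    rw [h4]
    exact Ideal.mul_mem_left _ _ (Ideal.subset_span rfl)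
  · rw [Ideal.span_le]
    rintro _ rfl
    exact hc'p

end Groth.Agent.Helper9.RegUFD
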