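import Mathlib

/-!
# A nonzero finitely generated locally principal ideal of a domain is an invertible module
-/

set_option autoImplicit false
universe u

namespace Groth.Agent.Helper9.RegUFD



section
variable {B : Type u} [CommRing B] [IsDomain B]

theorem invertible_of_unit (u : (Submodule B (FractionRing B))ˣ) :
    Module.Invertible B (u : Submodule B (FractionRing B)) := inferInstance

theorem invertible_of_locally_principal (P : Ideal B) (hP0 : P ≠ ⊥) (hfg : P.FG)
    (hLP : ∀ 𝔮 : Ideal B, 𝔮.IsMaximal → ∃ π ∈ P, ∀ y ∈ P, ∃ s, s ∉ 𝔮 ∧ ∃ b, s * y = b * π) :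
    Module.Invertible B P := by
  classical
  have hinj : Function.Injective (Algebra.linearMap B (FractionRing B)) := IsFractionRing.injective B (FractionRing B)
  let P' : Submodule B (FractionRing B) := Submodule.map (Algebra.linearMap B (FractionRing B)) P
  let J : Submodule B (FractionRing B) := 1 / P'
  have hle : P' * J ≤ 1 := Submodule.mul_one_div_le_one
  have hge : (1 : Submodule B (FractionRing B)) ≤ P' * J := by
    rw [Submodule.one_le]
    by_contra h1
    let I : Ideal B := Submodule.comap (Algebra.linearMap B (FractionRing B)) (P' * J)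
    have hI : I ≠ ⊤ := by
      intro h
      apply h1
      have : (1 : B) ∈ I := h ▸ Submodule.mem_top
      have h2 : Algebra.linearMap B (FractionRing B) 1 ∈ P' * J := this
      simpa using h2
    obtain ⟨𝔮, h𝔮, hI𝔮⟩ := Ideal.exists_le_maximal I hI
    obtain ⟨π, hπP, hπ⟩ := hLP 𝔮 h𝔮
    obtain ⟨S, hS⟩ := hfg
    have hSP : ∀ y ∈ S, y ∈ P := fun y hy => hS ▸ Ideal.subset_span hy
    choose! s hs b hb using hπ
    have hπ0 : π ≠ 0 := by
      rintro rfl
      apply hP0
      rw [← hS, Ideal.span_eq_bot]
      intro y hy
      have h2 := hb y (hSP y hy)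
      rw [mul_zero] at h2
      rcases mul_eq_zero.mp h2 with h3 | h3
      · exact absurd (h3 ▸ 𝔮.zero_mem) (hs y (hSP y hy))
      · exact h3
    set t := ∏ y ∈ S, s y with ht
    have ht𝔮 : t ∉ 𝔮 := by
      intro h
      obtain ⟨y, hy, hy2⟩ := (h𝔮.isPrime.prod_mem_iff).mp h
      exact hs y (hSP y hy) hy2
    have hπK : algebraMap B (FractionRing B) π ≠ 0 := by
      intro h
      exact hπ0 (hinj (by simpa using h))
    set z : (FractionRing B) := algebraMap B (FractionRing B) t / algebraMap B (FractionRing B) π with hz
    -- z ∈ J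
    have hzJ : z ∈ J := by
      rw [Submodule.mem_div_iff_forall_mul_mem]
      rintro w ⟨y, hy, rfl⟩
      have hy' : y ∈ Ideal.span (S : Set B) := hS ▸ hy
      have key : Ideal.span (S : Set B) ≤
          Submodule.comap (LinearMap.mulLeft B z ∘ₗ Algebra.linearMap B (FractionRing B)) (1 : Submodule B (FractionRing B)) := by
        rw [Ideal.span_le]
        intro y hy
        change z * algebraMap B (FractionRing B) y ∈ (1 : Submodule B (FractionRing B))
        rw [Submodule.mem_one]
        refine ⟨(∏ y' ∈ S.erase y, s y') * b y, ?_⟩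
        rw [hz, div_mul_eq_mul_div, eq_div_iff hπK, ← map_mul, ← map_mul, ht,
          ← Finset.prod_erase_mul S s hy]
        congr 1
        have := hb y (hSP y hy)
        linear_combination -(∏ y' ∈ S.erase y, s y') * this
      exact key hy'
    have h3 : algebraMap B (FractionRing B) π * z ∈ P' * J :=
      Submodule.mul_mem_mul ⟨π, hπP, rfl⟩ hzJ
    have h4 : algebraMap B (FractionRing B) π * z = algebraMap B (FractionRing B) t := by
      rw [hz, mul_div_cancel₀ _ hπK]
    rw [h4] at h3
    exact ht𝔮 (hI𝔮 h3)
  have hmul : P' * J = 1 := le_antisymm hle hge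
  let u : (Submodule B (FractionRing B))ˣ := ⟨P', J, hmul, by rw [mul_comm]; exact hmul⟩
  have hinv' : Module.Invertible B P' := invertible_of_unit u
  let e : P ≃ₗ[B] P' := Submodule.equivMapOfInjective (Algebra.linearMap B (FractionRing B)) hinj P
  exact Module.Invertible.congr e.symm

end

end Groth.Agent.Helper9.RegUFD
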