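import Mathlib
import Groth.Agent.Lib.Helper8.ABS11
import Groth.Agent.Lib.Helper8.RegularLocal

/-!
# Local principality of a height-one prime, given factoriality of smaller regular local rings
-/

set_option autoImplicit false
universe u

namespace Groth.Agent.Helper9.RegUFD

open IsLocalRing

theorem locally_principal (A : Type u) [CommRing A] [IsRegularLocalRing A] [IsDomain A]
    (d : ℕ) (hd : ringKrullDim A = d)
    (IH : ∀ d' < d, ∀ (R : Type u) [CommRing R] [IsRegularLocalRing R], ringKrullDim R = d' →
      UniqueFactorizationMonoid R)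
    (p : Ideal A) [hp : p.IsPrime] (hp1 : p.height = 1) (q : Ideal A) [hq : q.IsPrime]
    (hqm : q ≠ maximalIdeal A) :
    ∃ π ∈ p, ∀ y ∈ p, ∃ s, s ∉ q ∧ ∃ b, s * y = b * π := by
  by_cases hpq : p ≤ q
  · have hreg : IsRegularLocalRing (Localization.AtPrime q) :=
      Groth.Agent.Helper8.ABS.isRegularLocalRing_localization A q
    have hle : q.primeCompl ≤ nonZeroDivisors A := by
      intro s hs
      exact mem_nonZeroDivisors_of_ne_zero (fun h => hs (h ▸ q.zero_mem))
    have hinj : Function.Injective (algebraMap A (Localization.AtPrime q)) :=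
      IsLocalization.injective _ hle
    have hdom : IsDomain (Localization.AtPrime q) :=
      Groth.Agent.Helper8.RLR.isDomain (Localization.AtPrime q)
    -- dimension of A_q
    have hqlt : q < maximalIdeal A := lt_of_le_of_ne (le_maximalIdeal hq.ne_top) hqm
    have hht : q.height < (maximalIdeal A).height := Ideal.height_strict_mono_of_isPrime hqlt
    have hmd : (maximalIdeal A).height = d := by
      have := IsLocalRing.maximalIdeal_height_eq_ringKrullDim (R := A)
      rw [hd] at this
      have h3 : ((maximalIdeal A).height : WithBot ℕ∞) = ((d : ℕ∞) : WithBot ℕ∞) := this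
      exact WithBot.coe_injective h3
    obtain ⟨e, he⟩ : ∃ e : ℕ, q.height = e :=
      ⟨q.height.toNat, (ENat.natCast_toNat (Ideal.height_ne_top_of_isPrime)).symm⟩
    have hed : e < d := by
      rw [he, hmd] at hht
      exact_mod_cast hht
    have hdimq : ringKrullDim (Localization.AtPrime q) = e := by
      rw [IsLocalization.AtPrime.ringKrullDim_eq_height q (Localization.AtPrime q), he]
      rfl
    have hufd : UniqueFactorizationMonoid (Localization.AtPrime q) :=
      IH e hed (Localization.AtPrime q) hdimq
    -- the extended ideal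
    have hdisj : Disjoint (q.primeCompl : Set A) (p : Set A) := by
      rw [Set.disjoint_left]
      intro a ha hap
      exact ha (hpq hap)
    set p' := p.map (algebraMap A (Localization.AtPrime q)) with hp'
    have hp'prime : p'.IsPrime :=
      IsLocalization.isPrime_of_isPrime_disjoint q.primeCompl _ p hp hdisj
    have hp'ht : p'.height = 1 := by
      rw [hp', IsLocalization.height_map_of_disjoint q.primeCompl p hdisj, hp1]
    have hp'0 : p' ≠ ⊥ := Ideal.ne_bot_of_height_eq_one hp'ht
    obtain ⟨π', hπ'mem, hπ'prime⟩ := hp'prime.exists_mem_prime_of_ne_bot hp'0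
    have hp'span : p' = Ideal.span {π'} :=
      Ideal.eq_span_singleton_of_height_eq_one hp'ht hπ'mem hπ'prime
    rw [hp', IsLocalization.mem_map_algebraMap_iff q.primeCompl] at hπ'mem
    obtain ⟨⟨⟨π₀, hπ₀⟩, ⟨t, ht⟩⟩, hπt⟩ := hπ'mem
    simp only at hπt
    have htu : IsUnit (algebraMap A (Localization.AtPrime q) t) :=
      IsLocalization.map_units _ (⟨t, ht⟩ : q.primeCompl)
    have hspan : p' = Ideal.span {algebraMap A (Localization.AtPrime q) π₀} := by
      rw [hp'span, ← hπt, Ideal.span_singleton_mul_right_unit htu]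
    refine ⟨π₀, hπ₀, fun y hy => ?_⟩
    have hy' : algebraMap A (Localization.AtPrime q) y ∈
        Ideal.span {algebraMap A (Localization.AtPrime q) π₀} := by
      rw [← hspan]; exact Ideal.mem_map_of_mem _ hy
    rw [Ideal.mem_span_singleton'] at hy'
    obtain ⟨w, hw⟩ := hy'
    obtain ⟨b, ⟨s, hs⟩, rfl⟩ := IsLocalization.exists_mk'_eq q.primeCompl w
    refine ⟨s, hs, b, ?_⟩
    apply hinj
    rw [map_mul, map_mul, ← hw, ← mul_assoc]
    congr 1
    exact IsLocalization.mk'_spec' (Localization.AtPrime q) b (⟨s, hs⟩ : q.primeCompl)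
  · obtain ⟨π₀, hπ₀p, hπ₀q⟩ := Set.not_subset.mp hpq
    exact ⟨π₀, hπ₀p, fun y _ => ⟨π₀, hπ₀q, y, mul_comm _ _⟩⟩

end Groth.Agent.Helper9.RegUFD
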