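import Mathlib
import Groth.Agent.Lib.Helper8.ABS9

/-!
# Modules of finite projective dimension over a local ring become stably free
after a flat base change making them projective
-/

set_option autoImplicit false
universe u

namespace Groth.Agent.Helper9.RegUFD

open CategoryTheory TensorProduct

section
variable {A : Type u} [CommRing A] [IsLocalRing A] [IsNoetherianRing A]
  (B : Type u) [CommRing B] [Algebra A B] [Module.Flat A B]

/-- `(Fin k → B) × (Fin a → B) ≃ (Fin (k+a) → B)` -/
noncomputable def finProdEquiv (k a : ℕ) :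
    ((Fin k → B) × (Fin a → B)) ≃ₗ[B] (Fin (k + a) → B) :=
  (LinearEquiv.sumArrowLequivProdArrow (Fin k) (Fin a) B B).symm ≪≫ₗ
    LinearEquiv.funCongrLeft B B finSumFinEquiv.symm

theorem stablyFree_aux (n : ℕ) :
    ∀ (M : Type u) [AddCommGroup M] [Module A M] [Module.Finite A M],
      HasProjectiveDimensionLT (ModuleCat.of A M) (n + 1) → Module.Projective B (B ⊗[A] M) →
      ∃ a b : ℕ, Nonempty (((B ⊗[A] M) × (Fin a → B)) ≃ₗ[B] (Fin b → B)) := by
  induction n with
  | zero =>
    intro M _ _ _ hpd _
    have hfree : Module.Free A M := Groth.Agent.Helper8.ABS.free_of_projective_local hpd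
    let e : M ≃ₗ[A] (Fin (Module.finrank A M) → A) := (Module.finBasis A M).equivFun
    let e1 : (B ⊗[A] M) ≃ₗ[B] (B ⊗[A] (Fin (Module.finrank A M) → A)) :=
      TensorProduct.AlgebraTensorModule.congr (LinearEquiv.refl B B) e
    let e2 : (B ⊗[A] (Fin (Module.finrank A M) → A)) ≃ₗ[B] (Fin (Module.finrank A M) → B) :=
      TensorProduct.piScalarRight A B B (Fin (Module.finrank A M))
    exact ⟨0, Module.finrank A M, ⟨LinearEquiv.prodUnique ≪≫ₗ e1 ≪≫ₗ e2⟩⟩
  | succ n ih =>
    intro M _ _ _ hpd hproj
    obtain ⟨k, π, hπ⟩ := Module.Finite.exists_fin' A M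
    set K := LinearMap.ker π with hK
    -- projective dimension of the kernel
    have hpdK : HasProjectiveDimensionLT (ModuleCat.of A K) (n + 1) := by
      let S : ShortComplex (ModuleCat.{u} A) :=
        ModuleCat.shortComplexOfCompEqZero K.subtype π (by
          apply LinearMap.ext
          intro x
          exact x.2)
      have hS : S.ShortExact :=
        ModuleCat.shortComplex_shortExact _ (LinearMap.exact_subtype_ker_map π)
          (Submodule.injective_subtype K) hπ
      have h2 : HasProjectiveDimensionLT S.X₂ (n + 1) := by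
        have : Projective (ModuleCat.of A (Fin k → A)) :=
          (IsProjective.iff_projective _).mp (inferInstance : Module.Projective A (Fin k → A))
        have h1 : HasProjectiveDimensionLT (ModuleCat.of A (Fin k → A)) 1 := inferInstance
        exact hasProjectiveDimensionLT_of_ge (ModuleCat.of A (Fin k → A)) 1 (n + 1) (by omega)
      exact hS.hasProjectiveDimensionLT_X₁ (n + 1) h2 hpd
    -- base change of the sequence
    let ιB : (B ⊗[A] K) →ₗ[B] (B ⊗[A] (Fin k → A)) := LinearMap.baseChange B K.subtype
    let πB : (B ⊗[A] (Fin k → A)) →ₗ[B] (B ⊗[A] M) := LinearMap.baseChange B π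
    have hιB : Function.Injective ιB := by
      have := Module.Flat.lTensor_preserves_injective_linearMap (M := B) K.subtype
        (Submodule.injective_subtype K)
      exact this
    have hπB : Function.Surjective πB := by
      have := LinearMap.lTensor_surjective B hπ
      exact this
    have hex : Function.Exact ιB πB := by
      have := lTensor_exact B (LinearMap.exact_subtype_ker_map π) hπ
      exact this
    obtain ⟨σ, hσ⟩ := Module.projective_lifting_property πB LinearMap.id hπB
    let eS := (hex.splitSurjectiveEquiv hιB ⟨σ, hσ⟩).1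
    -- eS : B ⊗ A^k ≃ (B ⊗ K) × (B ⊗ M)
    let e2 : (B ⊗[A] (Fin k → A)) ≃ₗ[B] (Fin k → B) := TensorProduct.piScalarRight A B B (Fin k)
    have hprojK : Module.Projective B (B ⊗[A] K) := by
      have hfree : Module.Free B (B ⊗[A] (Fin k → A)) := Module.Free.of_equiv e2.symm
      have hP : Module.Projective B ((B ⊗[A] K) × (B ⊗[A] M)) :=
        Module.Projective.of_equiv eS
      exact Module.Projective.of_split (LinearMap.inl B (B ⊗[A] K) (B ⊗[A] M))
        (LinearMap.fst B (B ⊗[A] K) (B ⊗[A] M)) (LinearMap.fst_comp_inl B _ _)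
    obtain ⟨a, b, ⟨eK⟩⟩ := ih K hpdK hprojK
    refine ⟨b, k + a, ⟨?_⟩⟩
    exact (LinearEquiv.prodCongr (LinearEquiv.refl B _) eK.symm) ≪≫ₗ
      (LinearEquiv.prodAssoc B _ _ _).symm ≪≫ₗ
      (LinearEquiv.prodCongr (LinearEquiv.prodComm B _ _ ≪≫ₗ eS.symm ≪≫ₗ e2) (LinearEquiv.refl B _)) ≪≫ₗ
      finProdEquiv B k a

end

end Groth.Agent.Helper9.RegUFD
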