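import Mathlib
import Groth.Agent.Lib.Helper8.ABS15
import Groth.Agent.Lib.Helper8.RegularLocal
import Groth.Agent.Lib.Helper9.RegUFD.StablyFree
import Groth.Agent.Lib.Helper9.RegUFD.Invertible
import Groth.Agent.Lib.Helper9.RegUFD.Descent
import Groth.Agent.Lib.Helper9.RegUFD.LocPrin

/-!
# Auslander–Buchsbaum: a regular local ring is factorial
-/

set_option autoImplicit false
universe u

namespace Groth.Agent.Helper9.RegUFD

open IsLocalRing TensorProduct CategoryTheory

theorem principal_of_height_one (A : Type u) [CommRing A] [IsRegularLocalRing A] [IsDomain A]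
    (d : ℕ) (hd : ringKrullDim A = d)
    (IH : ∀ d' < d, ∀ (R : Type u) [CommRing R] [IsRegularLocalRing R], ringKrullDim R = d' →
      UniqueFactorizationMonoid R)
    (x : A) (hxm : x ∈ maximalIdeal A) (hxprime : Prime x)
    (p : Ideal A) [hp : p.IsPrime] (hp1 : p.height = 1) (hxp : x ∉ p) : p.IsPrincipal := by
  apply principal_of_away x hxprime p hxp
  have hle : Submonoid.powers x ≤ nonZeroDivisors A :=
    Submonoid.powers_le.mpr (mem_nonZeroDivisors_of_ne_zero hxprime.ne_zero)
  have hinj : Function.Injective (algebraMap A (Localization.Away x)) :=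
    IsLocalization.injective _ hle
  have hdomB : IsDomain (Localization.Away x) := IsLocalization.isDomain_localization hle
  set P := p.map (algebraMap A (Localization.Away x)) with hP
  have hp0 : p ≠ ⊥ := Ideal.ne_bot_of_height_eq_one hp1
  have hP0 : P ≠ ⊥ := by
    intro h
    exact hp0 ((Ideal.map_eq_bot_iff_of_injective hinj).mp h)
  have hfg : P.FG := IsNoetherian.noetherian P
  have hLP : ∀ 𝔮 : Ideal (Localization.Away x), 𝔮.IsMaximal →
      ∃ π ∈ P, ∀ y ∈ P, ∃ s, s ∉ 𝔮 ∧ ∃ b, s * y = b * π := by
    intro 𝔮 h𝔮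
    have h𝔮p : 𝔮.IsPrime := h𝔮.isPrime
    set q := 𝔮.comap (algebraMap A (Localization.Away x)) with hq
    have hqprime : q.IsPrime := Ideal.comap_isPrime _ _
    have hxu : IsUnit (algebraMap A (Localization.Away x) x) :=
      IsLocalization.Away.algebraMap_isUnit x
    have hxq : x ∉ q := by
      intro h
      exact h𝔮p.ne_top (Ideal.eq_top_of_isUnit_mem _ h hxu)
    have hqm : q ≠ maximalIdeal A := fun h => hxq (h ▸ hxm)
    obtain ⟨π₀, hπ₀, hπ⟩ := locally_principal A d hd IH p hp1 q hqm
    refine ⟨algebraMap A _ π₀, Ideal.mem_map_of_mem _ hπ₀, fun y' hy' => ?_⟩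
    rw [hP, IsLocalization.mem_map_algebraMap_iff (Submonoid.powers x)] at hy'
    obtain ⟨⟨⟨y, hy⟩, ⟨t, ht⟩⟩, hyt⟩ := hy'
    simp only at hyt
    obtain ⟨s, hs, b, hsb⟩ := hπ y hy
    have htu : IsUnit (algebraMap A (Localization.Away x) t) :=
      IsLocalization.map_units _ (⟨t, ht⟩ : Submonoid.powers x)
    refine ⟨algebraMap A _ s * algebraMap A _ t, ?_, algebraMap A _ b, ?_⟩
    · intro h
      rcases h𝔮p.mem_or_mem h with h1 | h1
      · exact hs h1
      · exact h𝔮p.ne_top (Ideal.eq_top_of_isUnit_mem _ h1 htu)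
    · rw [mul_assoc, mul_comm (algebraMap A _ t), hyt, ← map_mul, ← map_mul, hsb]
  have hinv : Module.Invertible (Localization.Away x) P :=
    invertible_of_locally_principal P hP0 hfg hLP
  -- stably free
  obtain ⟨N, -, hpd⟩ := Groth.Agent.Helper8.ABS.exists_hasProjectiveDimensionLT_of_regular A p
  let e : (Localization.Away x) ⊗[A] p ≃ₗ[Localization.Away x] P :=
    (IsLocalizedModule.isBaseChange (Submonoid.powers x) (Localization.Away x)
      (Algebra.idealMap (Localization.Away x) p)).equiv
  have hproj : Module.Projective (Localization.Away x) ((Localization.Away x) ⊗[A] p) :=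
    Module.Projective.of_equiv e.symm
  obtain ⟨a, b, ⟨ψ⟩⟩ := stablyFree_aux (Localization.Away x) N p hpd hproj
  have hfree1 : Module.Free (Localization.Away x)
      (((Localization.Away x) ⊗[A] p) × (Fin a → Localization.Away x)) :=
    Module.Free.of_equiv ψ.symm
  have hsf1 : Module.IsStablyFree (Localization.Away x) ((Localization.Away x) ⊗[A] p) :=
    Module.IsStablyFree.of_free_prod (Localization.Away x) _ (Fin a → Localization.Away x)
  have hsf : Module.IsStablyFree (Localization.Away x) P := Module.IsStablyFree.equiv e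
  have hfree : Module.Free (Localization.Away x) P :=
    Module.free_of_isStablyFree_of_invertible (Localization.Away x) P
  obtain ⟨e'⟩ := Module.Invertible.free_iff_linearEquiv.mp hfree
  refine ⟨⟨(e'.symm 1 : P), ?_⟩⟩
  apply le_antisymm
  · intro y hy
    rw [Submodule.mem_span_singleton]
    refine ⟨e' ⟨y, hy⟩, ?_⟩
    have h1 : (⟨y, hy⟩ : P) = e' ⟨y, hy⟩ • e'.symm 1 := by
      rw [← map_smul, smul_eq_mul, mul_one, LinearEquiv.symm_apply_apply]
    have h2 := congrArg Subtype.val h1
    simpa using h2.symm
  · rw [Submodule.span_le]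
    rintro _ rfl
    exact (e'.symm 1).2

theorem ufd_aux (d : ℕ) : ∀ (A : Type u) [CommRing A] [IsRegularLocalRing A],
    ringKrullDim A = d → UniqueFactorizationMonoid A := by
  induction d using Nat.strong_induction_on with
  | _ d IH =>
    intro A _ _ hd
    have hdom : IsDomain A := Groth.Agent.Helper8.RLR.isDomain A
    rw [UniqueFactorizationMonoid.iff_exists_prime_mem_of_isPrime]
    intro I hI0 hIprime
    have hIm : I ≤ maximalIdeal A := le_maximalIdeal hIprime.ne_top
    -- an element of m outside m²
    obtain ⟨x, hxm, hx2⟩ : ∃ x ∈ maximalIdeal A, x ∉ maximalIdeal A ^ 2 := by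
      by_contra h
      push Not at h
      have hle : maximalIdeal A ≤ maximalIdeal A • maximalIdeal A := by
        intro y hy
        have := h y hy
        rwa [pow_two] at this
      have hbot : maximalIdeal A = ⊥ :=
        Submodule.eq_bot_of_le_smul_of_le_jacobson_bot (maximalIdeal A) (maximalIdeal A)
          (IsNoetherian.noetherian _) hle (IsLocalRing.maximalIdeal_le_jacobson ⊥)
      exact hI0 (le_bot_iff.mp (hbot ▸ hIm))
    have hx0 : x ≠ 0 := by
      rintro rfl
      exact hx2 (Ideal.zero_mem _)
    obtain ⟨hregq, -⟩ := Groth.Agent.Helper8.RLR.quotient_singleton hxm hx2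
    have hdomq : IsDomain (A ⧸ Ideal.span ({x} : Set A)) := Groth.Agent.Helper8.RLR.isDomain _
    have hxprime : Prime x := by
      rw [← Ideal.span_singleton_prime hx0]
      exact (Ideal.Quotient.isDomain_iff_prime _).mp hdomq
    by_cases hxI : x ∈ I
    · exact ⟨x, hxI, hxprime⟩
    obtain ⟨a, haI, ha0⟩ : ∃ a ∈ I, a ≠ 0 := by
      by_contra h
      push Not at h
      exact hI0 ((Submodule.eq_bot_iff _).mpr h)
    obtain ⟨p, hpmin, hpI⟩ := Ideal.exists_minimalPrimes_le (I := Ideal.span {a}) (J := I)
      ((Ideal.span_singleton_le_iff_mem _).mpr haI)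
    have hp : p.IsPrime := hpmin.1.1
    have hht : p.height ≤ 1 := Ideal.height_le_one_of_isPrincipal_of_mem_minimalPrimes _ p hpmin
    have hp0 : p ≠ ⊥ := by
      rintro rfl
      have : a ∈ (⊥ : Ideal A) := hpmin.1.2 (Ideal.subset_span rfl)
      exact ha0 (by simpa using this)
    have hp1 : p.height = 1 := by
      apply le_antisymm hht
      rw [Order.one_le_iff_pos, pos_iff_ne_zero]
      intro h
      exact hp0 (Ideal.height_eq_zero_iff_eq_bot.mp h)
    have hxp : x ∉ p := fun h => hxI (hpI h)
    have hprin := principal_of_height_one A d hd IH x hxm hxprime p hp1 hxp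
    obtain ⟨g, hg⟩ := hprin.principal
    have hg' : p = Ideal.span {g} := hg
    have hg0 : g ≠ 0 := by
      rintro rfl
      apply hp0
      rw [hg']; simp
    refine ⟨g, hpI (hg' ▸ Ideal.subset_span rfl), ?_⟩
    rw [← Ideal.span_singleton_prime hg0, ← hg']
    exact hp

/-- **Auslander–Buchsbaum**: a regular local ring is a unique factorisation domain. -/
theorem ufd (A : Type u) [CommRing A] [IsRegularLocalRing A] : UniqueFactorizationMonoid A := by
  set d := (maximalIdeal A).spanFinrank with hd'
  have hd : ringKrullDim A = (d : WithBot ℕ∞) :=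
    (IsRegularLocalRing.spanFinrank_maximalIdeal (R := A)).symm
  exact ufd_aux d A hd

end Groth.Agent.Helper9.RegUFD
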